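import Groth.Agent.Lib.RegSmooth17.Basic
import Mathlib.RingTheory.Localization.BaseChange
import Mathlib.RingTheory.Localization.LocalizationLocalization
import Mathlib.RingTheory.Smooth.Field
import Mathlib.FieldTheory.Perfect

/-!
# Smoothness along the generic fibre in characteristic zero
-/

universe u

open scoped TensorProduct

namespace Groth.Agent.GenSmooth18

attribute [local instance] Algebra.TensorProduct.rightAlgebra

theorem isSmoothAt_of_comap_eq_bot {A B : Type u} [CommRing A] [IsDomain A] [CharZero A]
    [CommRing B] [Algebra A B] [Algebra.FiniteType A B] (q : Ideal B) [q.IsPrime]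
    (hq : q.comap (algebraMap A B) = ⊥) [IsRegularLocalRing (Localization.AtPrime q)] :
    Algebra.IsSmoothAt A q := by
  let K := FractionRing A
  let B' := K ⊗[A] B
  let M := Algebra.algebraMapSubmonoid B (nonZeroDivisors A)
  have hloc : IsLocalization M B' := inferInstance
  have hdisj : Disjoint (M : Set B) q := by
    rw [Set.disjoint_left]
    rintro _ ⟨a, ha, rfl⟩ hmem
    have : a ∈ q.comap (algebraMap A B) := hmem
    rw [hq, Ideal.mem_bot] at this
    exact nonZeroDivisors.ne_zero ha this
  let q' : Ideal B' := q.map (algebraMap B B')
  have : q'.IsPrime := IsLocalization.isPrime_of_isPrime_disjoint M B' q inferInstance hdisj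
  have hcomap : q'.comap (algebraMap B B') = q :=
    IsLocalization.comap_map_of_isPrime_disjoint M B' inferInstance hdisj
  let T := Localization.AtPrime q'
  haveI hT : IsLocalization.AtPrime T q := by
    convert! IsLocalization.isLocalization_isLocalization_atPrime_isLocalization M T q'
      using 1
    simp only [hcomap]
  haveI : IsScalarTower A B T := inferInstance
  let e : Localization.AtPrime q ≃ₐ[B] T := IsLocalization.algEquiv q.primeCompl _ T
  haveI : IsRegularLocalRing T := IsRegularLocalRing.of_ringEquiv e.toRingEquiv
  haveI : Algebra.FiniteType K B' := inferInstance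
  haveI : CharZero K := charZero_of_injective_algebraMap (IsFractionRing.injective A K)
  haveI : Algebra.EssFiniteType K q'.ResidueField :=
    haveI : Algebra.EssFiniteType B' q'.ResidueField := inferInstance
    Algebra.EssFiniteType.comp K B' q'.ResidueField
  haveI : PerfectField K := PerfectField.ofCharZero
  haveI : Algebra.FormallySmooth K q'.ResidueField := Algebra.FormallySmooth.of_perfectField
  haveI : Algebra.FormallySmooth K T := RegSmooth17.isSmoothAt_of_isRegularLocalRing K B' q'
  haveI : Algebra.FormallySmooth A K := Algebra.FormallySmooth.of_isLocalization (nonZeroDivisors A)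
  haveI : Algebra.FormallySmooth A T := Algebra.FormallySmooth.comp A K T
  exact Algebra.FormallySmooth.of_equiv (A := T) (e.restrictScalars A).symm

end Groth.Agent.GenSmooth18
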