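import Mathlib.RingTheory.Kaehler.Polynomial
import Mathlib.RingTheory.Smooth.Field
import Mathlib.RingTheory.Etale.Kaehler
import Mathlib.RingTheory.Etale.Field
import Mathlib.RingTheory.AlgebraicIndependent.Transcendental
import Mathlib.RingTheory.AlgebraicIndependent.TranscendenceBasis
import Mathlib.FieldTheory.SeparablyGenerated
import Mathlib.FieldTheory.Perfect
import Mathlib.LinearAlgebra.Dimension.Constructions
import Mathlib.RingTheory.Smooth.StandardSmoothCotangent

/-!
# Rank of differentials of separably generated field extensions
-/

universe u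

open scoped TensorProduct

namespace Groth.Agent.GenSmooth18

open scoped IntermediateField.algebraAdjoinAdjoin in
theorem rank_kaehler_of_isSeparable {K L : Type u} [Field K] [Field L] [Algebra K L] {ι : Type u}
    {v : ι → L} (hb : AlgebraicIndependent K v)
    [Algebra.IsSeparable (IntermediateField.adjoin K (Set.range v)) L] :
    Module.rank L (Ω[L⁄K]) = Cardinal.mk ι := by
  let P := MvPolynomial ι K
  let F := IntermediateField.adjoin K (Set.range v)
  let R := Algebra.adjoin K (Set.range v)
  haveI : Algebra.FormallyEtale R F := Algebra.FormallyEtale.of_isLocalization (nonZeroDivisors R)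
  haveI : Algebra.FormallyEtale F L := Algebra.FormallyEtale.of_isSeparable F L
  haveI : Algebra.FormallyEtale R L := Algebra.FormallyEtale.comp R F L
  letI : Algebra P R := hb.aevalEquiv.toRingEquiv.toRingHom.toAlgebra
  haveI : Algebra.FormallyEtale P R := Algebra.FormallyEtale.of_equiv
    (AlgEquiv.ofBijective (Algebra.ofId P R) hb.aevalEquiv.bijective)
  letI : Algebra P L := ((algebraMap R L).comp (algebraMap P R)).toAlgebra
  haveI : IsScalarTower P R L := IsScalarTower.of_algebraMap_eq' rfl
  haveI : IsScalarTower K P R := IsScalarTower.of_algebraMap_eq fun c =>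
    (hb.aevalEquiv.commutes c).symm
  haveI : IsScalarTower K P L := IsScalarTower.of_algebraMap_eq fun c => by
    change algebraMap K L c = algebraMap R L (algebraMap P R (algebraMap K P c))
    rw [← IsScalarTower.algebraMap_apply K P R, ← IsScalarTower.algebraMap_apply K R L]
  haveI : Algebra.FormallyEtale P L := Algebra.FormallyEtale.comp P R L
  rw [← (KaehlerDifferential.tensorKaehlerEquivOfFormallyEtale K P L).rank_eq,
    Module.rank_baseChange, Cardinal.lift_id,
    ← (KaehlerDifferential.mvPolynomialBasis K ι).mk_eq_rank'']

/-- In a finitely generated extension of a perfect field the differentials have rank the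
transcendence degree. -/
theorem rank_kaehler_eq_trdeg (K L : Type u) [Field K] [PerfectField K] [Field L] [Algebra K L]
    [Algebra.EssFiniteType K L] : Module.rank L (Ω[L⁄K]) = Algebra.trdeg K L := by
  obtain ⟨s, hs, H⟩ := exists_isTranscendenceBasis_and_isSeparable_of_perfectField K L
  have : Algebra.IsSeparable (↥(IntermediateField.adjoin K (Set.range ((↑) : s → L)))) L := by
    convert! H <;> simp
  rw [rank_kaehler_of_isSeparable hs.1, hs.cardinalMk_eq_trdeg]

theorem rank_kaehler_generic {R S K L : Type u} [CommRing R] [CommRing S] [Field K] [Field L]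
    [Algebra R S] [Algebra R K] [Algebra S L] [Algebra R L] [Algebra K L] [IsScalarTower R S L]
    [IsScalarTower R K L] [IsFractionRing R K] [IsFractionRing S L] [PerfectField K]
    [Algebra.EssFiniteType K L] [Algebra.IsStandardSmooth R S] :
    Module.rank S (Ω[S⁄R]) = Algebra.trdeg K L := by
  haveI : Nontrivial S := (algebraMap S L).domain_nontrivial
  haveI : Algebra.FormallyEtale S L := Algebra.FormallyEtale.of_isLocalization (nonZeroDivisors S)
  haveI : Algebra.FormallyEtale R K := Algebra.FormallyEtale.of_isLocalization (nonZeroDivisors R)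
  let φ : Ω[L⁄R] →ₗ[L] Ω[L⁄K] := KaehlerDifferential.map R K L L
  have hsurj : Function.Surjective φ := KaehlerDifferential.map_surjective R K L
  have hinj : Function.Injective φ := by
    rw [injective_iff_map_eq_zero]
    intro x hx
    obtain ⟨y, rfl⟩ := (KaehlerDifferential.exact_mapBaseChange_map R K L x).1 hx
    haveI : Subsingleton (Ω[K⁄R]) := inferInstance
    rw [Subsingleton.elim y 0, map_zero]
  rw [← rank_kaehler_eq_trdeg K L, ← (LinearEquiv.ofBijective φ ⟨hinj, hsurj⟩).rank_eq,
    ← (KaehlerDifferential.tensorKaehlerEquivOfFormallyEtale R S L).rank_eq,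
    Module.rank_baseChange, Cardinal.lift_id]

end Groth.Agent.GenSmooth18
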