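import Groth.Agent.Lib.GenSmooth18.Alg
import Groth.Agent.Lib.SmoothReg17.Basic
import Mathlib.AlgebraicGeometry.Morphisms.Smooth
import Mathlib.AlgebraicGeometry.Morphisms.FinitePresentation
import Mathlib.AlgebraicGeometry.FunctionField

/-!
# Generic smoothness in characteristic zero
-/

universe u

open CategoryTheory AlgebraicGeometry TopologicalSpace Topology

namespace Groth.Agent.GenSmooth18

variable {X Y : Scheme.{u}}

theorem mem_smoothLocus [IsIntegral Y] [CharZero Y.functionField] (f : X ⟶ Y)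
    [LocallyOfFinitePresentation f] (x : X) (hx : f x = genericPoint Y)
    [IsRegularLocalRing (X.presheaf.stalk x)] : x ∈ f.smoothLocus := by
  obtain ⟨_, ⟨U, hU, rfl⟩, hxU, -⟩ :=
    Y.isBasis_affineOpens.exists_subset_of_mem_open (Set.mem_univ (f x)) isOpen_univ
  obtain ⟨_, ⟨V, hV, rfl⟩, hxV, hVU⟩ :=
    X.isBasis_affineOpens.exists_subset_of_mem_open hxU (U.2.preimage f.continuous)
  have hne : Nonempty U := ⟨⟨f x, hxU⟩⟩
  rw [Scheme.Hom.mem_smoothLocus, formallySmooth_stalkMap_iff U hU V hV hVU hxV]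
  letI := (f.appLE U V hVU).hom.toAlgebra
  haveI : Algebra.FiniteType Γ(Y, U) Γ(X, V) := f.finiteType_appLE hU hV hVU
  haveI : CharZero Γ(Y, U) := RingHom.charZero (Y.germToFunctionField U).hom
  letI := X.presheaf.algebra_section_stalk (U := V) ⟨x, hxV⟩
  haveI := hV.isLocalization_stalk ⟨x, hxV⟩
  let q := (hV.primeIdealOf ⟨x, hxV⟩).asIdeal
  haveI : IsRegularLocalRing (Localization.AtPrime q) := IsRegularLocalRing.of_ringEquiv
    (IsLocalization.algEquiv q.primeCompl (Localization.AtPrime q) (X.presheaf.stalk x)).symm.toRingEquiv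
  refine isSmoothAt_of_comap_eq_bot q ?_
  have h1 : q.comap (f.appLE U V hVU).hom = (hU.primeIdealOf ⟨f x, hVU hxV⟩).asIdeal :=
    congr($(IsAffineOpen.comap_primeIdealOf_appLE U hU V hV hVU hxV).1)
  refine h1.trans ?_
  have h2 : hU.primeIdealOf ⟨f x, hVU hxV⟩ = genericPoint (Spec Γ(Y, U)) := by
    rw [← hU.primeIdealOf_genericPoint]
    congr 1
    exact Subtype.ext hx
  rw [h2, genericPoint_eq_bot_of_affine]
  rfl

theorem charZero_functionField {k : Type u} [Field k] [CharZero k] [IsIntegral Y]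
    (q : Y ⟶ Spec (CommRingCat.of k)) : CharZero Y.functionField :=
  charZero_of_injective_ringHom (R := k) ((Scheme.ΓSpecIso (CommRingCat.of k)).inv ≫ q.appTop ≫
    Y.presheaf.germ ⊤ (genericPoint Y) trivial).hom.injective

theorem exists_smooth_of_dominant [IsIntegral X] [IsIntegral Y] [CharZero Y.functionField]
    (f : X ⟶ Y) [LocallyOfFinitePresentation f] (hdom : f (genericPoint X) = genericPoint Y) :
    ∃ U : X.Opens, (U : Set X).Nonempty ∧ Smooth (U.ι ≫ f) := by
  haveI : IsRegularLocalRing (X.presheaf.stalk (genericPoint X)) :=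
    inferInstanceAs (IsRegularLocalRing X.functionField)
  refine ⟨f.smoothLocus, ⟨_, mem_smoothLocus f _ hdom⟩, ?_⟩
  rw [← Scheme.Hom.smoothLocus_eq_top_iff, ← Scheme.Hom.preimage_smoothLocus_eq]
  exact Scheme.Opens.ι_preimage_self _

theorem exists_open_compl_of_constructible [IrreducibleSpace X] {s : Set X}
    (hs : IsConstructible s) (hη : genericPoint X ∉ s) :
    ∃ V : X.Opens, (V : Set X).Nonempty ∧ Disjoint (V : Set X) s := by
  suffices ∃ V : X.Opens, (V : Set X).Nonempty ∧ ((V : Set X) ⊆ s ∨ Disjoint (V : Set X) s) by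
    obtain ⟨V, hV, h | h⟩ := this
    · exact absurd (h (((genericPoint_spec X).mem_open_set_iff V.2).mpr (by simpa using hV))) hη
    · exact ⟨V, hV, h⟩
  clear hη
  induction hs using IsConstructible.empty_union_induction with
  | open_retrocompact U hUo _ =>
    rcases U.eq_empty_or_nonempty with h | h
    · exact ⟨⊤, ⟨genericPoint X, trivial⟩, Or.inr (by simp [h])⟩
    · exact ⟨⟨U, hUo⟩, h, Or.inl subset_rfl⟩
  | union s _ t _ hs ht =>
    obtain ⟨V, hV, hVs | hVs⟩ := hs
    · exact ⟨V, hV, Or.inl (hVs.trans Set.subset_union_left)⟩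
    obtain ⟨W, hW, hWt | hWt⟩ := ht
    · exact ⟨W, hW, Or.inl (hWt.trans Set.subset_union_right)⟩
    refine ⟨V ⊓ W, nonempty_preirreducible_inter V.2 W.2 hV hW, Or.inr ?_⟩
    rw [Set.disjoint_union_right]
    exact ⟨hVs.mono_left Set.inter_subset_left, hWt.mono_left Set.inter_subset_right⟩
  | compl s _ hs =>
    obtain ⟨V, hV, hVs | hVs⟩ := hs
    · exact ⟨V, hV, Or.inr (Set.disjoint_compl_right_iff_subset.2 hVs)⟩
    · exact ⟨V, hV, Or.inl hVs.subset_compl_right⟩

theorem exists_smooth_preimage {k : Type u} [Field k] [CharZero k] (qX : X ⟶ Spec (CommRingCat.of k))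
    [Smooth qX] [IsIntegral Y] [CharZero Y.functionField] (f : X ⟶ Y)
    [LocallyOfFinitePresentation f] [QuasiCompact f] [CompactSpace Y] [QuasiSeparatedSpace Y]
    [IsLocallyNoetherian X] :
    ∃ V : Y.Opens, (V : Set Y).Nonempty ∧ Smooth (f ∣_ V) := by
  haveI : CompactSpace X := QuasiCompact.compactSpace_of_compactSpace f
  haveI : IsNoetherian X := {}
  have hZ : IsConstructible ((f.smoothLocus : Set X)ᶜ) :=
    ((NoetherianSpace.isCompact _).isConstructible f.smoothLocus.2).compl
  obtain ⟨V, hV, hd⟩ := exists_open_compl_of_constructible (f.isConstructible_image hZ) (by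
    rintro ⟨x, hxZ, hx⟩
    haveI := SmoothReg17.isRegularLocalRing_stalk qX x
    exact hxZ (mem_smoothLocus f x hx))
  refine ⟨V, hV, ?_⟩
  have hle : f ⁻¹ᵁ V ≤ f.smoothLocus := fun x hx => by
    by_contra h
    exact Set.disjoint_left.1 hd hx ⟨x, h, rfl⟩
  have h1 : Smooth ((f ⁻¹ᵁ V).ι ≫ f) := by
    rw [← Scheme.Hom.smoothLocus_eq_top_iff, ← Scheme.Hom.preimage_smoothLocus_eq, eq_top_iff]
    exact fun x _ => hle x.2
  rw [← morphismRestrict_ι] at h1
  exact MorphismProperty.of_postcomp @Smooth (W' := @IsOpenImmersion) (f ∣_ V) V.ι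
    inferInstance h1

end Groth.Agent.GenSmooth18
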