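import Groth.Agent.Lib.RegSmooth17.Basic
import Groth.Agent.Lib.GenSmooth18.Scheme
import Mathlib.RingTheory.Localization.BaseChange
import Mathlib.RingTheory.Localization.LocalizationLocalization
import Mathlib.RingTheory.Smooth.Field
import Mathlib.FieldTheory.Perfect
import Groth.Agent.Lib.Descend.BaseChangeAt

/-!
# Smoothness along the generic fibre over a perfect function field
-/

universe u

open CategoryTheory AlgebraicGeometry TopologicalSpace Topology
open scoped TensorProduct

namespace Groth.Agent.GenSmooth18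

attribute [local instance] Algebra.TensorProduct.rightAlgebra

theorem isSmoothAt_of_comap_eq_bot_of_perfect {A B : Type u} (K : Type u) [CommRing A] [IsDomain A] [Field K]
    [Algebra A K] [IsFractionRing A K] [PerfectField K]
    [CommRing B] [Algebra A B] [Algebra.FiniteType A B] (q : Ideal B) [q.IsPrime]
    (hq : q.comap (algebraMap A B) = ⊥) [IsRegularLocalRing (Localization.AtPrime q)] :
    Algebra.IsSmoothAt A q := by
  let B' := K ⊗[A] B
  let M := Algebra.algebraMapSubmonoid B (nonZeroDivisors A)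
  have hloc : IsLocalization M B' := inferInstance
  have hdisj : Disjoint (M : Set B) q := by
    rw [Set.disjoint_left]
    rintro _ ⟨a, ha, rfl⟩ hmem
    have : a ∈ q.comap (algebraMap A B) := hmem
    rw [hq, Ideal.mem_bot] at this
    exact nonZeroDivisors.ne_zero ha this
  let q' : Ideal B' := q.map (algebraMap B B')
  have : q'.IsPrime := IsLocalization.isPrime_of_isPrime_disjoint M B' q inferInstance hdisj
  have hcomap : q'.comap (algebraMap B B') = q :=
    IsLocalization.comap_map_of_isPrime_disjoint M B' inferInstance hdisj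
  let T := Localization.AtPrime q'
  haveI hT : IsLocalization.AtPrime T q := by
    convert! IsLocalization.isLocalization_isLocalization_atPrime_isLocalization M T q'
      using 1
    simp only [hcomap]
  haveI : IsScalarTower A B T := inferInstance
  let e : Localization.AtPrime q ≃ₐ[B] T := IsLocalization.algEquiv q.primeCompl _ T
  haveI : IsRegularLocalRing T := IsRegularLocalRing.of_ringEquiv e.toRingEquiv
  haveI : Algebra.FiniteType K B' := inferInstance
  haveI : Algebra.EssFiniteType K q'.ResidueField :=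
    haveI : Algebra.EssFiniteType B' q'.ResidueField := inferInstance
    Algebra.EssFiniteType.comp K B' q'.ResidueField
  haveI : Algebra.FormallySmooth K q'.ResidueField := Algebra.FormallySmooth.of_perfectField
  haveI : Algebra.FormallySmooth K T := RegSmooth17.isSmoothAt_of_isRegularLocalRing K B' q'
  haveI : Algebra.FormallySmooth A K := Algebra.FormallySmooth.of_isLocalization (nonZeroDivisors A)
  haveI : Algebra.FormallySmooth A T := Algebra.FormallySmooth.comp A K T
  exact Algebra.FormallySmooth.of_equiv (A := T) (e.restrictScalars A).symm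

theorem mem_smoothLocus_of_perfect {X Y : Scheme.{u}} [IsIntegral Y] [PerfectField Y.functionField] (f : X ⟶ Y)
    [LocallyOfFinitePresentation f] (x : X) (hx : f x = genericPoint Y)
    [IsRegularLocalRing (X.presheaf.stalk x)] : x ∈ f.smoothLocus := by
  obtain ⟨_, ⟨U, hU, rfl⟩, hxU, -⟩ :=
    Y.isBasis_affineOpens.exists_subset_of_mem_open (Set.mem_univ (f x)) isOpen_univ
  obtain ⟨_, ⟨V, hV, rfl⟩, hxV, hVU⟩ :=
    X.isBasis_affineOpens.exists_subset_of_mem_open hxU (U.2.preimage f.continuous)
  have hne : Nonempty U := ⟨⟨f x, hxU⟩⟩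
  rw [Scheme.Hom.mem_smoothLocus, formallySmooth_stalkMap_iff U hU V hV hVU hxV]
  letI := (f.appLE U V hVU).hom.toAlgebra
  haveI : Algebra.FiniteType Γ(Y, U) Γ(X, V) := f.finiteType_appLE hU hV hVU
  haveI : IsFractionRing Γ(Y, U) Y.functionField := functionField_isFractionRing_of_isAffineOpen Y U hU
  letI := X.presheaf.algebra_section_stalk (U := V) ⟨x, hxV⟩
  haveI := hV.isLocalization_stalk ⟨x, hxV⟩
  let q := (hV.primeIdealOf ⟨x, hxV⟩).asIdeal
  haveI : IsRegularLocalRing (Localization.AtPrime q) := IsRegularLocalRing.of_ringEquiv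
    (IsLocalization.algEquiv q.primeCompl (Localization.AtPrime q) (X.presheaf.stalk x)).symm.toRingEquiv
  refine isSmoothAt_of_comap_eq_bot_of_perfect Y.functionField q ?_
  have h1 : q.comap (f.appLE U V hVU).hom = (hU.primeIdealOf ⟨f x, hVU hxV⟩).asIdeal :=
    congr($(IsAffineOpen.comap_primeIdealOf_appLE U hU V hV hVU hxV).1)
  refine h1.trans ?_
  have h2 : hU.primeIdealOf ⟨f x, hVU hxV⟩ = genericPoint (Spec Γ(Y, U)) := by
    rw [← hU.primeIdealOf_genericPoint]
    congr 1
    exact Subtype.ext hx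
  rw [h2, genericPoint_eq_bot_of_affine]
  rfl

theorem exists_smooth_preimage_of_perfect {X Y : Scheme.{u}} [IsIntegral Y] [PerfectField Y.functionField]
    (f : X ⟶ Y) [LocallyOfFinitePresentation f] [QuasiCompact f] [IsLocallyNoetherian X]
    (hreg : ∀ x : X, IsRegularLocalRing (X.presheaf.stalk x)) :
    ∃ V : Y.Opens, (V : Set Y).Nonempty ∧ Smooth (f ∣_ V) := by
  obtain ⟨W, hW, hηW, -⟩ := exists_isAffineOpen_mem_and_subset (X := Y) (x := genericPoint Y) (U := ⊤) trivial
  let g := f ∣_ W
  haveI : CompactSpace W.toScheme := isCompact_iff_compactSpace.mp hW.isCompact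
  haveI : IsAffine W.toScheme := hW
  haveI : Nonempty W.toScheme := ⟨⟨_, hηW⟩⟩
  haveI : IsIntegral W.toScheme := inferInstance
  haveI : CompactSpace (f ⁻¹ᵁ W).toScheme := QuasiCompact.compactSpace_of_compactSpace g
  haveI : IsNoetherian (f ⁻¹ᵁ W).toScheme := {}
  have hZ : IsConstructible ((g.smoothLocus : Set (f ⁻¹ᵁ W).toScheme)ᶜ) :=
    ((NoetherianSpace.isCompact _).isConstructible g.smoothLocus.2).compl
  have hgen : W.ι (genericPoint W.toScheme) = genericPoint Y := genericPoint_eq_of_isOpenImmersion W.ι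
  obtain ⟨V, hV, hd⟩ := exists_open_compl_of_constructible (g.isConstructible_image hZ) (by
    rintro ⟨x, hxZ, hx⟩
    refine hxZ ?_
    have hx' : f ((f ⁻¹ᵁ W).ι x) = genericPoint Y := by
      rw [← hgen, ← hx, ← Scheme.Hom.comp_apply, ← Scheme.Hom.comp_apply, morphismRestrict_ι]
    haveI := hreg ((f ⁻¹ᵁ W).ι x)
    have hm := mem_smoothLocus_of_perfect f _ hx'
    have : x ∈ (f ⁻¹ᵁ W).ι ⁻¹ᵁ f.smoothLocus := hm
    rw [Scheme.Hom.preimage_smoothLocus_eq] at this; simp only [← morphismRestrict_ι] at this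
    exact (Descend.mem_smoothLocus_comp_iff g W.ι x).1 this)
  refine ⟨W.ι ''ᵁ V, hV.image _, ?_⟩
  have hle : f ⁻¹ᵁ (W.ι ''ᵁ V) ≤ f.smoothLocus := fun y hy => by
    obtain ⟨v, hv, hvy⟩ := hy
    have hyW : f y ∈ W := hvy ▸ v.2
    by_contra h
    refine Set.disjoint_left.1 hd hv ⟨⟨y, hyW⟩, fun hs => h ?_, ?_⟩
    · have h2 := (Descend.mem_smoothLocus_comp_iff g W.ι (⟨y, hyW⟩ : (f ⁻¹ᵁ W).toScheme)).2 hs
      simp only [g, morphismRestrict_ι] at h2
      rw [← Scheme.Hom.preimage_smoothLocus_eq] at h2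
      exact h2
    · apply W.ι.injective
      rw [← Scheme.Hom.comp_apply, morphismRestrict_ι, Scheme.Hom.comp_apply]
      exact hvy.symm
  have h1 : Smooth ((f ⁻¹ᵁ (W.ι ''ᵁ V)).ι ≫ f) := by
    rw [← Scheme.Hom.smoothLocus_eq_top_iff, ← Scheme.Hom.preimage_smoothLocus_eq, eq_top_iff]
    exact fun x _ => hle x.2
  rw [← morphismRestrict_ι] at h1
  exact MorphismProperty.of_postcomp @Smooth (W' := @IsOpenImmersion) (f ∣_ (W.ι ''ᵁ V)) (W.ι ''ᵁ V).ι
    inferInstance h1

end Groth.Agent.GenSmooth18
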