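import Groth.Agent.Lib.GenSmooth18.Scheme
import Groth.Agent.Lib.GenSmooth18.Rank
import Mathlib.AlgebraicGeometry.Morphisms.FiniteType

/-!
# Relative dimension at the generic point
-/

universe u

open CategoryTheory AlgebraicGeometry TopologicalSpace

namespace Groth.Agent.GenSmooth18

variable {X Y : Scheme.{u}}

theorem base_data [IsIntegral Y] [CharZero Y.functionField] {y : Y} (hy : y = genericPoint Y) :
    IsField (Y.presheaf.stalk y) ∧ CharZero (Y.presheaf.stalk y) ∧
      ∀ (U : Y.Opens), IsAffineOpen U → ∀ hyU : y ∈ U,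
        letI := Y.presheaf.algebra_section_stalk ⟨y, hyU⟩
        IsFractionRing Γ(Y, U) (Y.presheaf.stalk y) := by
  subst hy
  refine ⟨Field.toIsField Y.functionField, inferInstanceAs (CharZero Y.functionField), fun U hU hyU => ?_⟩
  haveI : Nonempty U := ⟨⟨_, hyU⟩⟩
  exact functionField_isFractionRing_of_isAffineOpen Y U hU

theorem exists_smoothOfRelativeDimension [IsIntegral X] [IsIntegral Y] [CharZero Y.functionField]
    (f : X ⟶ Y) [LocallyOfFinitePresentation f] (hdom : f (genericPoint X) = genericPoint Y)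
    (n : ℕ) (hn : @Algebra.trdeg (Y.presheaf.stalk (f (genericPoint X))) X.functionField _ _
      (f.stalkMap (genericPoint X)).hom.toAlgebra = n) :
    ∃ U : X.Opens, (U : Set X).Nonempty ∧ SmoothOfRelativeDimension n (U.ι ≫ f) := by
  haveI : IsRegularLocalRing (X.presheaf.stalk (genericPoint X)) :=
    inferInstanceAs (IsRegularLocalRing X.functionField)
  obtain ⟨hfield, hchar, hfrac⟩ := base_data hdom
  obtain ⟨U, hU, V, hV, hVU, hxV, H⟩ :=
    exists_smooth_of_formallySmooth_stalk f _ (mem_smoothLocus f _ hdom)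
  letI := (f.appLE U V hVU).hom.toAlgebra
  haveI : Algebra.Smooth Γ(Y, U) Γ(X, V) := H
  obtain ⟨s, hs, hstd⟩ := Algebra.Smooth.exists_span_eq_top_isStandardSmooth Γ(Y, U) Γ(X, V)
  haveI : Nonempty V := ⟨⟨_, hxV⟩⟩
  obtain ⟨g, hgs, hg⟩ : ∃ g ∈ s, g ≠ 0 := by
    by_contra! hc
    have : Ideal.span s ≤ ⊥ := Ideal.span_le.2 fun g hg => by simpa using hc g hg
    rw [hs] at this
    exact one_ne_zero ((Ideal.mem_bot).1 (this (trivial : (1 : Γ(X, V)) ∈ (⊤ : Ideal Γ(X, V)))))
  have hxg : genericPoint X ∈ X.basicOpen g := by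
    refine ((genericPoint_spec X).mem_open_set_iff (X.basicOpen g).2).mpr ?_
    simp only [Set.univ_inter]
    by_contra hne
    exact hg ((AlgebraicGeometry.basicOpen_eq_bot_iff g).1 (Opens.ext (Set.not_nonempty_iff_eq_empty.1 hne)))
  let W := X.basicOpen g
  have hW : IsAffineOpen W := hV.basicOpen g
  have hWU : W ≤ f ⁻¹ᵁ U := (X.basicOpen_le g).trans hVU
  letI := (f.appLE U W hWU).hom.toAlgebra
  haveI : IsScalarTower Γ(Y, U) Γ(X, V) Γ(X, W) := by
    refine IsScalarTower.of_algebraMap_eq' ?_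
    change (f.appLE U W hWU).hom =
      ((X.presheaf.map (homOfLE (X.basicOpen_le g)).op)).hom.comp (f.appLE U V hVU).hom
    rw [← CommRingCat.hom_comp, Scheme.Hom.appLE_map]
  haveI := hV.isLocalization_basicOpen g
  haveI : Algebra.IsStandardSmooth Γ(Y, U) (Localization.Away g) := hstd g hgs
  haveI : Algebra.IsStandardSmooth Γ(Y, U) Γ(X, W) :=
    Algebra.IsStandardSmooth.of_algEquiv ((IsLocalization.algEquiv (Submonoid.powers g) (Localization.Away g)
      Γ(X, W)).restrictScalars Γ(Y, U))
  haveI : Nonempty W := ⟨⟨_, hxg⟩⟩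
  letI : Field (Y.presheaf.stalk (f (genericPoint X))) := hfield.toField
  letI : Algebra (Y.presheaf.stalk (f (genericPoint X))) X.functionField :=
    (f.stalkMap (genericPoint X)).hom.toAlgebra
  haveI : IsFractionRing Γ(X, W) X.functionField :=
    functionField_isFractionRing_of_isAffineOpen X W hW
  letI := Y.presheaf.algebra_section_stalk (U := U) ⟨f (genericPoint X), hWU hxg⟩
  haveI := hfrac U hU (hWU hxg)
  letI : Algebra Γ(Y, U) X.functionField :=
    ((algebraMap Γ(X, W) X.functionField).comp (algebraMap Γ(Y, U) Γ(X, W))).toAlgebra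
  haveI : IsScalarTower Γ(Y, U) Γ(X, W) X.functionField := IsScalarTower.of_algebraMap_eq' rfl
  haveI : IsScalarTower Γ(Y, U) (Y.presheaf.stalk (f (genericPoint X))) X.functionField := by
    refine IsScalarTower.of_algebraMap_eq' ?_
    change (X.presheaf.germ W (genericPoint X) hxg).hom.comp (f.appLE U W hWU).hom =
      (f.stalkMap (genericPoint X)).hom.comp (Y.presheaf.germ U (f (genericPoint X)) (hWU hxg)).hom
    rw [← CommRingCat.hom_comp, ← CommRingCat.hom_comp]
    congr 1
    delta Scheme.Hom.appLE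
    rw [Category.assoc, TopCat.Presheaf.germ_res, ← Scheme.Hom.germ_stalkMap]
  haveI : Algebra.EssFiniteType (Y.presheaf.stalk (f (genericPoint X))) X.functionField :=
    LocallyOfFiniteType.stalkMap f (genericPoint X)
  haveI := hchar
  haveI : PerfectField (Y.presheaf.stalk (f (genericPoint X))) := PerfectField.ofCharZero
  haveI : Nontrivial Γ(X, W) := (algebraMap Γ(X, W) X.functionField).domain_nontrivial
  have hrank : Module.rank Γ(X, W) (Ω[Γ(X, W)⁄Γ(Y, U)]) = n :=
    (rank_kaehler_generic (K := Y.presheaf.stalk (f (genericPoint X))) (L := X.functionField)).trans hn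
  haveI : Algebra.IsStandardSmoothOfRelativeDimension n Γ(Y, U) Γ(X, W) :=
    (Algebra.IsStandardSmoothOfRelativeDimension.iff_of_isStandardSmooth n).2 hrank
  haveI : IsAffine W := hW
  refine ⟨W, ⟨_, hxg⟩, ⟨fun x => ⟨U, hU, ⊤, isAffineOpen_top _, trivial, fun y _ => hWU y.2, ?_⟩⟩⟩
  have e : (W.ι ≫ f).appLE U ⊤ (fun y _ => hWU y.2) = f.appLE U W hWU ≫ W.topIso.inv := by
    simp [Scheme.Hom.appLE, Scheme.Opens.topIso]
    congr 1
    exact ((X.presheaf.map_comp _ _).symm).trans ((congrArg X.presheaf.map (Subsingleton.elim _ _)).trans (X.presheaf.map_comp _ _))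
  rw [e, CommRingCat.hom_comp]
  exact RingHom.isStandardSmoothOfRelativeDimension_respectsIso.left _ W.topIso.symm.commRingCatIsoToRingEquiv
    (RingHom.isStandardSmoothOfRelativeDimension_algebraMap n |>.2 inferInstance)

end Groth.Agent.GenSmooth18
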